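import Groth.Agent.Lib.GlobFun18.Sch
import Groth.Agent.Lib.AbRigid.SmoothGI
import Groth.Agent.Lib.Omega12.AffineDer
import Mathlib.AlgebraicGeometry.Morphisms.Proper
import Mathlib.RingTheory.Derivation.Basic

/-!
# Derivations kill the global functions of proper geometrically reduced schemes over a field

`minpoly_separable_of_isGeometricallyReduced`, `der_app_top_eq_zero`.
-/

set_option autoImplicit false
set_option backward.isDefEq.respectTransparency false
set_option backward.isDefEq.respectTransparency.types false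
set_option linter.style.haveILetI false

universe u

open CategoryTheory CategoryTheory.Limits AlgebraicGeometry TopologicalSpace Polynomial TensorProduct

namespace Groth.Agent.OmegaProper12

/-- Integral elements of geometrically reduced algebras are separable. -/
theorem minpoly_separable_of_isGeometricallyReduced {k : Type u} [Field k] {A : Type u} [CommRing A] [Algebra k A]
    [Algebra.IsGeometricallyReduced k A] {x : A} (hx : IsIntegral k x) : (minpoly k x).Separable := by
  let K := AlgebraicClosure k
  have hp0 : minpoly k x ≠ 0 := minpoly.ne_zero hx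
  let ψ : AdjoinRoot (minpoly k x) →ₐ[k] A := AdjoinRoot.liftAlgHom _ (Algebra.ofId k A) x (minpoly.aeval k x)
  have hψ : Function.Injective ψ := by
    rw [injective_iff_map_eq_zero]
    intro a ha
    obtain ⟨P, rfl⟩ := AdjoinRoot.mk_surjective a
    rw [AdjoinRoot.mk_eq_zero]
    exact minpoly.dvd k x ((show aeval x P = ψ (AdjoinRoot.mk _ P) by
      rw [← AdjoinRoot.aeval_eq, ← aeval_algHom_apply]; simp [ψ]).trans ha)
  haveI : Algebra.IsGeometricallyReduced k (AdjoinRoot (minpoly k x)) :=
    Algebra.IsGeometricallyReduced.of_injective ψ hψ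
  let pb := AdjoinRoot.powerBasis hp0
  let b := pb.basis.baseChange K
  have hd : pb.dim = (minpoly k x).natDegree := rfl
  rw [← separable_map (algebraMap k K), PerfectField.separable_iff_squarefree]
  set pK := (minpoly k x).map (algebraMap k K) with hpK
  have hpK0 : pK ≠ 0 := (Polynomial.map_ne_zero_iff (algebraMap k K).injective).2 hp0
  intro q hq
  by_contra hu
  obtain ⟨r, hr⟩ := hq
  set g := q * r with hg
  have hg0 : g ≠ 0 := fun h => hpK0 (by rw [hr, mul_assoc, ← hg, h, mul_zero])
  have hqd : 1 ≤ q.natDegree := by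
    refine Nat.one_le_iff_ne_zero.2 fun h => hu ?_
    have hq0 : q ≠ 0 := fun h0 => hg0 (by rw [hg, h0, zero_mul])
    rw [Polynomial.eq_C_of_natDegree_eq_zero h] at hq0 ⊢
    exact Polynomial.isUnit_C.2 (isUnit_iff_ne_zero.2 fun h0 => hq0 (by rw [h0, map_zero]))
  have hdeg : g.natDegree < pb.dim := by
    have hq0 : q ≠ 0 := fun h0 => hg0 (by rw [hg, h0, zero_mul])
    have : pK.natDegree = q.natDegree + g.natDegree := by
      rw [hr, mul_assoc, ← hg, Polynomial.natDegree_mul hq0 hg0]
    rw [hpK, Polynomial.natDegree_map] at this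
    omega
  set y : K ⊗[k] AdjoinRoot (minpoly k x) := 1 ⊗ₜ AdjoinRoot.root _ with hy
  have hpy : aeval y pK = 0 := by
    rw [hpK, aeval_map_algebraMap, show y = Algebra.TensorProduct.includeRight (AdjoinRoot.root _) from rfl,
      aeval_algHom_apply, AdjoinRoot.aeval_eq, AdjoinRoot.mk_self, map_zero]
  have hz : aeval y g = 0 := by
    refine IsNilpotent.eq_zero ⟨2, ?_⟩
    rw [← map_pow, show g ^ 2 = r * pK by rw [hg, hr]; ring, map_mul, hpy, mul_zero]
  refine hg0 (Polynomial.ext fun n => ?_)
  rcases lt_or_ge n pb.dim with hn | hn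
  · have hsum : aeval y g = ∑ i : Fin pb.dim, g.coeff i • b i := by
      rw [aeval_eq_sum_range' hdeg, ← Fin.sum_univ_eq_sum_range (fun i => g.coeff i • y ^ i)]
      refine Finset.sum_congr rfl fun i _ => ?_
      simp [b, y, pb, Algebra.TensorProduct.tmul_pow, Algebra.TensorProduct.basis_apply]
    rw [hsum] at hz
    simpa using Fintype.linearIndependent_iff.1 b.linearIndependent (fun i => g.coeff i) hz ⟨n, hn⟩
  · rw [Polynomial.coeff_eq_zero_of_natDegree_lt (by omega), Polynomial.coeff_zero]

/-- Every derivation over the field kills the global functions. -/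
theorem der_app_top_eq_zero {k : Type u} [Field k] {X : Scheme.{u}} (f : X ⟶ Spec (CommRingCat.of k))
    [IsProper f] [GeometricallyReduced f] {F : X.Modules} (D : OmegaSh.Der f F) (s : Γ(X, ⊤)) :
    D.app ⊤ s = 0 := by
  letI : Algebra k Γ(X, ⊤) := ((Scheme.ΓSpecIso (CommRingCat.of k)).inv ≫ f.appTop).hom.toAlgebra
  have halg : algebraMap k Γ(X, ⊤) = f.appTop.hom.comp (Scheme.ΓSpecIso (CommRingCat.of k)).inv.hom := rfl
  haveI := GlobFun18.isGeometricallyReduced_globalSections f halg
  have hint : IsIntegral k s := by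
    have h : (algebraMap k Γ(X, ⊤)).IsIntegral := halg ▸ RingHom.IsIntegral.trans _ _
      (RingHom.isIntegral_of_surjective _ (Scheme.ΓSpecIso (CommRingCat.of k)).symm.commRingCatIsoToRingEquiv.surjective)
      (isIntegral_appTop_of_universallyClosed f)
    exact h s
  obtain ⟨h1, h2⟩ := Omega12.der_top_rules f D
  letI : Module k Γ(F, ⊤) := Module.compHom _ (algebraMap k Γ(X, ⊤))
  haveI : IsScalarTower k Γ(X, ⊤) Γ(F, ⊤) := IsScalarTower.of_algebraMap_smul fun _ _ => rfl
  have hc : ∀ c : k, D.app ⊤ (algebraMap k Γ(X, ⊤) c) = 0 := fun c => h2 _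
  let δ : Derivation k Γ(X, ⊤) Γ(F, ⊤) := Derivation.mk'
    { toFun := D.app ⊤
      map_add' := map_add _
      map_smul' := fun c t => by
        rw [Algebra.smul_def, h1, hc, smul_zero, add_zero, RingHom.id_apply, algebraMap_smul] } h1
  obtain ⟨a, b, hab⟩ := minpoly_separable_of_isGeometricallyReduced (A := Γ(X, ⊤)) hint
  have h3 := Derivation.map_aeval δ (minpoly k s) s
  rw [minpoly.aeval, map_zero] at h3
  show δ s = 0
  have h4 : aeval s b * aeval s (derivative (minpoly k s)) = 1 := by
    have := congrArg (aeval s) hab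
    rwa [map_add, map_mul, map_mul, minpoly.aeval, mul_zero, zero_add, map_one] at this
  rw [← one_smul Γ(X, ⊤) (δ s), ← h4, mul_smul, ← h3, smul_zero]

end Groth.Agent.OmegaProper12
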