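import Groth.Agent.Lib.OmegaProper12.Basic
import Groth.Agent.Lib.Omega12.Restrict
import Groth.Agent.Lib.Fibration13.Basic
import Groth.Agent.Lib.AbRigid.SmoothGI
import Groth.Agent.S3701
import Mathlib.AlgebraicGeometry.Normalization
import Mathlib.RingTheory.RingHom.Etale

/-!
# Relative derivations kill functions pulled back from the base of a smooth proper morphism

`der_app_preimage_eq_zero`.
-/

set_option autoImplicit false
set_option backward.isDefEq.respectTransparency false
set_option backward.isDefEq.respectTransparency.types false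
set_option linter.style.haveILetI false

universe u

open CategoryTheory CategoryTheory.Limits AlgebraicGeometry TopologicalSpace Opposite

namespace Groth.Agent.OmegaProper12

variable {S X : Scheme.{u}} (f : X ⟶ S) [IsProper f] [Smooth f] {F : X.Modules} (D : OmegaSh.Der f F)

theorem der_app_preimage_affine_eq_zero {U : S.Opens} (hU : IsAffineOpen U) (s : Γ(X, f ⁻¹ᵁ U)) :
    D.app (f ⁻¹ᵁ U) s = 0 := by
  haveI : Etale f.fromNormalization := by
    refine (S3701.result f fun Ω _ _ σ => ?_).2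
    exact AbRigid.isReduced_of_smooth_over_field (pullback.snd f σ)
  letI : Algebra Γ(S, U) Γ(X, f ⁻¹ᵁ U) := (f.app U).hom.toAlgebra
  let B := integralClosure Γ(S, U) Γ(X, f ⁻¹ᵁ U)
  haveI : Algebra.FormallyUnramified Γ(S, U) B := by
    have h1 : (f.fromNormalization.app U).hom.Etale := by
      have := f.fromNormalization.etale_appLE hU (hU.preimage f.fromNormalization) le_rfl
      rwa [Scheme.Hom.appLE_eq_app] at this
    rw [← RingHom.formallyUnramified_algebraMap]
    have h2 : CommRingCat.ofHom (algebraMap Γ(S, U) B) = f.fromNormalization.app U ≫ (f.normalizationObjIso hU).hom := by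
      rw [f.fromNormalization_app hU, Category.assoc, Iso.inv_hom_id, Category.comp_id]
    have h3 : algebraMap Γ(S, U) B =
        (f.normalizationObjIso hU).commRingCatIsoToRingEquiv.toRingHom.comp (f.fromNormalization.app U).hom :=
      congrArg CommRingCat.Hom.hom h2
    rw [h3]
    exact RingHom.FormallyUnramified.respectsIso.1 _ _ h1.formallyUnramified
  have hint : ∀ t : Γ(X, f ⁻¹ᵁ U), t ∈ B := fun t => Fibration13.isIntegral_app f hU t
  have hm : ∀ a b : Γ(X, f ⁻¹ᵁ U), D.app _ (a * b) = a • D.app _ b + b • D.app _ a :=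
    fun a b => D.d_mul (X := op (f ⁻¹ᵁ U)) a b
  letI : Module Γ(S, U) Γ(F, f ⁻¹ᵁ U) := Module.compHom _ (algebraMap Γ(S, U) Γ(X, f ⁻¹ᵁ U))
  haveI : IsScalarTower Γ(S, U) Γ(X, f ⁻¹ᵁ U) Γ(F, f ⁻¹ᵁ U) := IsScalarTower.of_algebraMap_smul fun _ _ => rfl
  letI : Module B Γ(F, f ⁻¹ᵁ U) := Module.compHom _ B.val.toRingHom
  haveI : IsScalarTower Γ(S, U) B Γ(F, f ⁻¹ᵁ U) := IsScalarTower.of_algebraMap_smul fun _ _ => rfl
  have hc : ∀ c : Γ(S, U), D.app _ (algebraMap Γ(S, U) Γ(X, f ⁻¹ᵁ U) c) = 0 := fun c => Omega12.der_base f D U c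
  let δ : Derivation Γ(S, U) B Γ(F, f ⁻¹ᵁ U) := Derivation.mk'
    { toFun := fun b => D.app _ b.1
      map_add' := fun a b => map_add (D.app _) a.1 b.1
      map_smul' := fun c b => by
        show D.app _ ((c • b : B) : Γ(X, f ⁻¹ᵁ U)) = c • D.app _ b.1
        rw [Subalgebra.coe_smul, Algebra.smul_def, hm, hc, smul_zero, add_zero, algebraMap_smul] }
    fun a b => hm a.1 b.1
  have h0 : δ ⟨s, hint s⟩ = 0 := by
    rw [← δ.liftKaehlerDifferential_comp_D, Subsingleton.elim (KaehlerDifferential.D Γ(S, U) B ⟨s, hint s⟩) 0,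
      map_zero]
  exact h0

/-- Relative derivations kill functions on preimages of opens of the base. -/
theorem der_app_preimage_eq_zero (V : S.Opens) (s : Γ(X, f ⁻¹ᵁ V)) : D.app (f ⁻¹ᵁ V) s = 0 := by
  let ι := {U : S.affineOpens // U.1 ≤ V}
  refine TopCat.Sheaf.eq_of_locally_eq' (⟨F.presheaf, F.isSheaf⟩ : TopCat.Sheaf _ _) (fun U : ι => f ⁻¹ᵁ U.1.1)
    (f ⁻¹ᵁ V) (fun U => homOfLE (f.preimage_mono U.2)) (fun x hx => ?_) _ _ fun U => ?_
  · obtain ⟨U, hU, hxU, hUV⟩ := exists_isAffineOpen_mem_and_subset (X := S) (x := f x) (U := V) hx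
    exact Opens.mem_iSup.2 ⟨⟨⟨U, hU⟩, hUV⟩, hxU⟩
  · show F.presheaf.map _ (D.app _ s) = F.presheaf.map _ 0
    rw [map_zero, ← Omega12.der_res f D (f.preimage_mono U.2)]
    exact der_app_preimage_affine_eq_zero f D U.1.2 _

end Groth.Agent.OmegaProper12
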